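import Groth.Agent.Lib.CohenAlg3.Deform
import Groth.Agent.Lib.CplDomain.GRegular
import Groth.Agent.Lib.NagJac3.Lift

/-! # Derivations into finite modules extend along adically formally smooth complete algebras -/

set_option autoImplicit false
set_option linter.style.haveILetI false
set_option backward.isDefEq.respectTransparency false
universe u

namespace Groth.Agent.AndreFS1

open IsLocalRing TrivSqZeroExt TensorProduct

/-- A derivation of the base with values in a finite module over the top ring extends. -/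
theorem exists_derivation_extend {A B : Type u} [CommRing A] [IsLocalRing A] [CommRing B] [IsLocalRing B]
    [IsNoetherianRing B] [IsAdicComplete (maximalIdeal B) B] [Algebra A B] [IsLocalHom (algebraMap A B)]
    (hfs : CAlgX.IsAdicFormallySmooth A B (maximalIdeal B))
    {M : Type u} [AddCommGroup M] [Module A M] [Module B M] [Module Bᵐᵒᵖ M] [IsCentralScalar B M]
    [IsScalarTower A B M] [Module.Finite B M] (d₀ : Derivation ℤ A M) :
    ∃ D : @Derivation ℤ B M _ _ _ (Ring.toIntAlgebra B) _ _, ∀ a : A, D (algebraMap A B a) = d₀ a := by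
  haveI : Module.Finite B (TrivSqZeroExt B M) := by
    refine Module.Finite.of_surjective ((LinearMap.toSpanSingleton B (TrivSqZeroExt B M) 1).coprod (inrHom B M)) fun x => ?_
    exact ⟨(x.fst, x.snd), by ext <;> simp⟩
  haveI : IsNoetherianRing (TrivSqZeroExt B M) := isNoetherianRing_iff.2 (isNoetherian_of_tower B inferInstance)
  let φ : A →+* TrivSqZeroExt B M :=
    { toFun := fun a => inl (algebraMap A B a) + inr (d₀ a)
      map_one' := by ext <;> simp
      map_mul' := fun x y => by
        ext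
        · simp
        · simp [d₀.leibniz, algebraMap_smul]
      map_zero' := by ext <;> simp
      map_add' := fun x y => by ext <;> simp }
  letI : Algebra A (TrivSqZeroExt B M) := φ.toAlgebra
  have hφ : ∀ a, algebraMap A (TrivSqZeroExt B M) a = inl (algebraMap A B a) + inr (d₀ a) := fun a => rfl
  let J : Ideal (TrivSqZeroExt B M) := RingHom.ker (TrivSqZeroExt.fstHom B B M).toRingHom
  have hJmem : ∀ x, x ∈ J ↔ x.fst = 0 := fun x => Iff.rfl
  have hJ2 : J ^ 2 = ⊥ := by
    rw [eq_bot_iff, pow_two, Ideal.mul_le]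
    intro x hx y hy
    rw [hJmem] at hx hy
    rw [Ideal.mem_bot]
    ext <;> simp [hx, hy]
  have hmk : ∀ {x y : TrivSqZeroExt B M}, x.fst = y.fst → Ideal.Quotient.mk J x = Ideal.Quotient.mk J y :=
    fun {x y} h => Ideal.Quotient.eq.2 ((hJmem _).2 (by simp [h]))
  let u : B →ₐ[A] TrivSqZeroExt B M ⧸ J :=
    { toRingHom := (Ideal.Quotient.mk J).comp (inlHom B M)
      commutes' := fun a => hmk (y := algebraMap A (TrivSqZeroExt B M) a) (by simp [hφ]) }
  let 𝔠 : Ideal (TrivSqZeroExt B M) := (maximalIdeal B).map (algebraMap B (TrivSqZeroExt B M))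
  haveI : IsAdicComplete (maximalIdeal B) (TrivSqZeroExt B M) := Compl.isAdicComplete_of_finite _ _
  haveI : IsAdicComplete 𝔠 (TrivSqZeroExt B M) :=
    (IsAdicComplete.map_algebraMap_iff (maximalIdeal B) (TrivSqZeroExt B M)).2 inferInstance
  haveI := NagJac3.isHausdorff_quotient (A := B) J
  have hinl : ∀ b ∈ maximalIdeal B, (inl b : TrivSqZeroExt B M) ∈ 𝔠 := fun b hb =>
    Ideal.mem_map_of_mem (algebraMap B (TrivSqZeroExt B M)) hb
  have hloc : ∀ a ∈ maximalIdeal A, algebraMap A B a ∈ maximalIdeal B := fun a ha => map_nonunit _ a ha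
  have hinr : ∀ (m : M) (b : B), b ∈ maximalIdeal B → (inr (b • m) : TrivSqZeroExt B M) ∈ 𝔠 := fun m b hb => by
    have : (inr (b • m) : TrivSqZeroExt B M) = inl b * inr m := (inl_mul_inr b m).symm
    rw [this]
    exact Ideal.mul_mem_right _ _ (hinl b hb)
  have hAC : ∃ k : ℕ, (maximalIdeal A ^ k).map (algebraMap A (TrivSqZeroExt B M)) ≤ 𝔠 := by
    refine ⟨2, Ideal.map_le_iff_le_comap.2 ?_⟩
    rw [pow_two, Ideal.mul_le]
    intro a ha b hb
    show algebraMap A _ (a * b) ∈ 𝔠
    rw [hφ, d₀.leibniz, inr_add, map_mul, inl_mul, ← IsScalarTower.algebraMap_smul B a (d₀ b),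
      ← IsScalarTower.algebraMap_smul B b (d₀ a)]
    exact add_mem (Ideal.mul_mem_right _ _ (hinl _ (hloc a ha)))
      (add_mem (hinr _ _ (hloc a ha)) (hinr _ _ (hloc b hb)))
  obtain ⟨v, -, hv⟩ := AdicSmooth3.exists_lift (𝔞 := maximalIdeal A) (𝔟 := maximalIdeal B) (𝔠 := 𝔠)
    (CohenAlg3.isFormallySmoothAdic_maximal hfs) hAC J ⟨2, by rw [hJ2]; exact bot_le⟩ u
    ⟨1, Ideal.map_le_iff_le_comap.2 fun b hb => by
      rw [pow_one] at hb
      exact Ideal.mem_map_of_mem (Ideal.Quotient.mk J) (hinl b hb)⟩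
  have hv1 : ∀ b, (v b).fst = b := fun b => by
    have h3 := (hJmem _).1 (Ideal.Quotient.eq.1
      (AlgHom.congr_fun hv b : Ideal.Quotient.mk J (v b) = Ideal.Quotient.mk J (inl b)))
    simpa [sub_eq_zero] using h3
  obtain ⟨D, hD⟩ := CplDomain.exists_intDerivation (A := B) (Derivation.mk'
    (AddMonoidHom.mk' (fun b => (v b).snd) fun a b => by simp).toIntLinearMap fun a b => by
      show (v (a * b)).snd = a • (v b).snd + b • (v a).snd
      rw [map_mul, snd_mul, hv1, hv1, op_smul_eq_smul])
  refine ⟨D, fun a => (hD _).trans ?_⟩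
  show (v (algebraMap A B a)).snd = d₀ a
  rw [v.commutes, hφ]
  simp

/-- Derivations of finite algebras extend along an adically formally smooth complete algebra. -/
theorem hasExt_of_adicFS (P B : Type u) [CommRing P] [IsLocalRing P] [CommRing B] [IsLocalRing B]
    [IsNoetherianRing B] [IsAdicComplete (maximalIdeal B) B] [Algebra P B] [IsLocalHom (algebraMap P B)]
    (hfs : CAlgX.IsAdicFormallySmooth P B (maximalIdeal B)) : CplDomain.HasExt P B := by
  intro C _ _ _ D
  haveI : IsCentralScalar B (B ⊗[P] C) := ⟨fun b z => by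
    induction z using TensorProduct.induction_on with
    | zero => simp
    | tmul x c => rw [TensorProduct.smul_tmul', TensorProduct.smul_tmul', op_smul_eq_smul]
    | add x y hx hy => rw [smul_add, smul_add, hx, hy]⟩
  let d₀ : Derivation ℤ P (B ⊗[P] C) :=
    { toFun := fun a => ((1 : B) ⊗ₜ[P] D (algebraMap P C a) : B ⊗[P] C)
      map_add' := fun a b => by rw [map_add, map_add, tmul_add]
      map_smul' := fun z a => by rw [RingHom.id_apply, map_zsmul, map_zsmul, TensorProduct.tmul_smul]
      map_one_eq_zero' := by show (1 : B) ⊗ₜ[P] D (algebraMap P C 1) = 0; rw [map_one, D.map_one_eq_zero, tmul_zero]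
      leibniz' := fun a b => by
        show (1 : B) ⊗ₜ[P] D (algebraMap P C (a * b)) = _
        rw [map_mul, D.leibniz, tmul_add, algebraMap_smul, algebraMap_smul, tmul_smul, tmul_smul]
        rfl }
  obtain ⟨d, hd⟩ := exists_derivation_extend hfs d₀
  exact ⟨d, hd⟩

end Groth.Agent.AndreFS1
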