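import Groth.Agent.Lib.AndreFS1.Ext
import Groth.Agent.Lib.CplDomain.GRing

/-! # Fibres of adically formally smooth maps of complete local rings (André) -/

set_option autoImplicit false
set_option linter.style.haveILetI false
universe u

open IsLocalRing TensorProduct

namespace Groth.Agent.AndreFS1

attribute [local instance] Algebra.TensorProduct.rightAlgebra

/-- A flat algebra over a regular local ring with regular closed fibre is regular. -/
theorem isRegularLocalRing_of_closedFibre {A B : Type u} [CommRing A] [IsRegularLocalRing A]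
    [CommRing B] [IsLocalRing B] [IsNoetherianRing B] [Algebra A B] [IsLocalHom (algebraMap A B)] [Module.Flat A B]
    [IsRegularLocalRing (B ⧸ (maximalIdeal A).map (algebraMap A B))] : IsRegularLocalRing B := by
  let m := maximalIdeal B
  have hcomap : m.comap (algebraMap A B) = maximalIdeal A :=
    ((local_hom_TFAE (algebraMap A B)).out 0 4).1 ‹_›
  let p := m.comap (algebraMap A B)
  haveI : IsRegularLocalRing (Localization.AtPrime p) := IsRegularLocalRing.of_ringEquiv (R := A)
    (IsLocalization.atUnits A p.primeCompl (S := Localization.AtPrime p) (fun x hx => by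
      rw [IsUnit.mem_submonoid_iff]
      simpa [p, hcomap] using hx)).toRingEquiv
  let e : B ≃ₐ[B] Localization.AtPrime m :=
    IsLocalization.atUnits B m.primeCompl (fun x hx => by rw [IsUnit.mem_submonoid_iff]; simpa [m] using hx)
  haveI : IsRegularLocalRing (EGA4.FibLocRing A B m) := IsRegularLocalRing.of_ringEquiv
    (R := B ⧸ (maximalIdeal A).map (algebraMap A B))
    (Ideal.quotientEquiv _ _ e.toRingEquiv (by
      rw [hcomap, Ideal.map_map]
      exact congrArg (fun f : A →+* Localization.AtPrime m => (maximalIdeal A).map f)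
        (RingHom.ext fun a => (IsScalarTower.algebraMap_apply A B (Localization.AtPrime m) a).trans
          (e.commutes (algebraMap A B a)).symm)))
  haveI := FlatDepth.regular_of_fibre (A := A) m
  exact IsRegularLocalRing.of_ringEquiv e.toRingEquiv.symm

/-- Regularity of the fibres over a complete local domain, after a finite extension of its fraction field. -/
theorem regular_tensor_domain (D B : Type u) [CommRing D] [IsDomain D] [IsLocalRing D] [IsNoetherianRing D]
    [IsAdicComplete (maximalIdeal D) D] [CommRing B] [IsLocalRing B] [IsNoetherianRing B]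
    [IsAdicComplete (maximalIdeal B) B] [Algebra D B] [IsLocalHom (algebraMap D B)]
    (hfs : CAlgX.IsAdicFormallySmooth D B (maximalIdeal B))
    (k : Type u) [Field k] [Algebra D k] [IsFractionRing D k]
    (L : Type u) [Field L] [Algebra k L] [Module.Finite k L] [Algebra D L] [IsScalarTower D k L] :
    IsRegularRing (L ⊗[D] B) := by
  obtain ⟨Λ, i1, N, φ, hΛ, hinj, hfin, hres⟩ := CplDomain.exists_finite_injective D
  suffices key : ∀ [IsRegularLocalRing Λ] [IsAdicComplete (maximalIdeal Λ) Λ], IsRegularRing (L ⊗[D] B) by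
    rcases hΛ with hF | ⟨hcoh, -⟩
    · letI := hF.toField
      haveI : IsAdicComplete (maximalIdeal Λ) Λ := by
        rw [show maximalIdeal Λ = ⊥ from IsLocalRing.maximalIdeal_eq_bot]; infer_instance
      exact key
    · obtain ⟨_, _, hc, -⟩ := hcoh
      haveI := hc
      exact key
  intro _ _
  let P := MvPowerSeries (Fin N) Λ
  haveI : IsRegularLocalRing P := Cohen.isRegularLocalRing_mvPowerSeries Λ N
  haveI := RegLoc.isDomain P
  haveI : IsAdicComplete (maximalIdeal P) P := ArtFunLib.isAdicComplete_mvPowerSeries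
  letI : Algebra P D := φ.toAlgebra
  haveI : Module.Finite P D := RingHom.finite_algebraMap.1 hfin
  haveI : Algebra.IsIntegral P D := Algebra.IsIntegral.of_finite P D
  haveI : FaithfulSMul P D := (faithfulSMul_iff_algebraMap_injective _ _).mpr hinj
  haveI : IsLocalHom (algebraMap P D) := inferInstance
  let κ := ResidueField D
  have hk₀ : Function.Surjective (algebraMap D κ) := residue_surjective
  have hk : Function.Surjective (algebraMap P κ) := hres
  -- the closed fibre
  obtain ⟨hflat, hgeo⟩ := (FSFlat3.isAdicFormallySmooth_iff hk₀).1 hfs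
  let I : Ideal B := (maximalIdeal D).map (algebraMap D B)
  have hI : I ≤ maximalIdeal B := ((local_hom_TFAE (algebraMap D B)).out 0 2).1 ‹_›
  letI : Algebra κ (B ⧸ I) := (Ideal.Quotient.lift (maximalIdeal D)
    (algebraMap D (B ⧸ I)) fun a ha => by
      rw [IsScalarTower.algebraMap_apply D B (B ⧸ I)]
      exact Ideal.Quotient.eq_zero_iff_mem.2 (Ideal.mem_map_of_mem _ ha)).toAlgebra
  haveI : IsScalarTower D κ (B ⧸ I) := .of_algebraMap_eq fun _ => rfl
  haveI : Nontrivial (B ⧸ I) := Ideal.Quotient.nontrivial_iff.2 fun h =>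
    (maximalIdeal.isMaximal B).ne_top (top_le_iff.1 (h ▸ hI))
  haveI : IsLocalRing (B ⧸ I) := IsLocalRing.of_surjective' _ Ideal.Quotient.mk_surjective
  obtain ⟨e₀⟩ := CohenAlg3.nonempty_fibre_algEquiv' hk₀ (Ideal.Quotient.mk I) Ideal.Quotient.mk_surjective Ideal.mk_ker
    (fun a => rfl)
  have hgeoF := CohenAlg3.isGeometricallyRegular_of_algEquiv e₀ hgeo
  haveI : IsRegularLocalRing (B ⧸ I) :=
    AdicSmooth.isRegularLocalRing_of_adicFS (FSFlat3.adicFS_iff_geometricallyRegular.2 hgeoF)
  haveI : IsAdicComplete (maximalIdeal (B ⧸ I)) (B ⧸ I) :=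
    CohenAlg3.isAdicComplete_of_surjective _ Ideal.Quotient.mk_surjective
  -- the lift over the power series ring
  letI : Algebra (ResidueField P) (B ⧸ I) :=
    ((algebraMap κ (B ⧸ I)).comp (ResidueField.map (algebraMap P D))).toAlgebra
  obtain ⟨B₀, iB, iBl, iBn, iBA, iloc, π, hc, hflat₀, hπ, hker, hπA⟩ := CohenAlg3.exists_lift P (B ⧸ I)
  haveI := hc
  haveI := hflat₀
  obtain ⟨e⟩ := CohenAlg3.nonempty_fibre_algEquiv' (k := κ) hk π hπ hker hπA
  have hfs₀ : CAlgX.IsAdicFormallySmooth P B₀ (maximalIdeal B₀) :=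
    (FSFlat3.isAdicFormallySmooth_iff hk).2 ⟨hflat₀, CohenAlg3.isGeometricallyRegular_of_algEquiv e.symm hgeoF⟩
  haveI : IsRegularLocalRing (B₀ ⧸ (maximalIdeal P).map (algebraMap P B₀)) :=
    IsRegularLocalRing.of_ringEquiv ((RingHom.quotientKerEquivOfSurjective hπ).symm.trans (Ideal.quotEquivOfEq hker))
  haveI : IsRegularLocalRing B₀ := isRegularLocalRing_of_closedFibre (A := P)
  haveI : IsRegularRing B₀ := CplDomain.isRegularRing_of_regularLocal B₀
  -- the base change to the domain
  letI : Algebra P (B ⧸ I) := ((algebraMap D (B ⧸ I)).comp (algebraMap P D)).toAlgebra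
  haveI : IsScalarTower P D (B ⧸ I) := .of_algebraMap_eq fun a => rfl
  let πP : B₀ →ₐ[P] B ⧸ I := { π with commutes' := fun a => (hπA a).trans rfl }
  let B₁ := D ⊗[P] B₀
  let i0 : B₀ →ₐ[P] B₁ := Algebra.TensorProduct.includeRight
  haveI : Module.Finite B₀ B₁ := Module.Finite.equiv (Algebra.TensorProduct.commRight P B₀ D).toLinearEquiv
  haveI : Algebra.IsIntegral B₀ B₁ := Algebra.IsIntegral.of_finite B₀ B₁
  haveI : IsNoetherianRing B₁ := IsNoetherianRing.of_finite B₀ B₁
  have hdec : ∀ x : B₁, ∃ b, x - i0 b ∈ (maximalIdeal D).map (algebraMap D B₁) := fun x => by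
    induction x using TensorProduct.induction_on with
    | zero => exact ⟨0, by simp⟩
    | add x y hx hy =>
      obtain ⟨b, hb⟩ := hx
      obtain ⟨c, hc⟩ := hy
      exact ⟨b + c, by rw [map_add, add_sub_add_comm]; exact add_mem hb hc⟩
    | tmul d b =>
      obtain ⟨a, ha⟩ := hres (residue D d)
      refine ⟨a • b, ?_⟩
      have hd : d - algebraMap P D a ∈ maximalIdeal D := by
        rw [← residue_eq_zero_iff, map_sub, sub_eq_zero]
        exact ha.symm
      have h1 : d ⊗ₜ[P] b - i0 (a • b) = algebraMap D B₁ (d - algebraMap P D a) * i0 b := by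
        rw [Algebra.TensorProduct.algebraMap_apply, Algebra.algebraMap_self_apply]
        show d ⊗ₜ[P] b - (1 : D) ⊗ₜ[P] (a • b) = (d - algebraMap P D a) ⊗ₜ[P] (1 : B₀) * (1 : D) ⊗ₜ[P] b
        rw [Algebra.TensorProduct.tmul_mul_tmul, mul_one, one_mul, TensorProduct.sub_tmul, ← TensorProduct.smul_tmul,
          Algebra.algebraMap_eq_smul_one]
      rw [h1]
      exact Ideal.mul_mem_right _ _ (Ideal.mem_map_of_mem _ hd)
  have hM0 : ∀ (M : Ideal B₁) [M.IsPrime], M.comap i0.toRingHom = maximalIdeal B₀ →
      (maximalIdeal D).map (algebraMap D B₁) ≤ M := fun M _ hM => by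
    rw [Ideal.map_le_iff_le_comap]
    haveI : (M.comap (algebraMap D B₁)).IsPrime := Ideal.IsPrime.comap _
    have hmax : (M.comap (algebraMap D B₁)).IsMaximal := by
      refine Ideal.isMaximal_of_isIntegral_of_isMaximal_comap (R := P) _ ?_
      have h1 : ((M.comap (algebraMap D B₁)).comap (algebraMap P D)) = maximalIdeal P := by
        have h0 : (maximalIdeal B₀).comap (algebraMap P B₀) = maximalIdeal P :=
          ((local_hom_TFAE (algebraMap P B₀)).out 0 4).1 iloc
        rw [Ideal.comap_comap, ← h0, ← hM, Ideal.comap_comap]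
        exact congrArg (fun f : P →+* B₁ => M.comap f) (RingHom.ext fun a =>
          ((IsScalarTower.algebraMap_apply P D B₁ a).symm.trans (i0.commutes a).symm))
      rw [h1]
      exact maximalIdeal.isMaximal P
    exact (IsLocalRing.eq_maximalIdeal hmax).ge
  have hcm : ∀ (M : Ideal B₁) [M.IsMaximal], M.comap i0.toRingHom = maximalIdeal B₀ := fun M _ =>
    IsLocalRing.eq_maximalIdeal (Ideal.isMaximal_comap_of_isIntegral_of_isMaximal (R := B₀) M)
  have hmem : ∀ (M : Ideal B₁) [M.IsPrime], M.comap i0.toRingHom = maximalIdeal B₀ →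
      ∀ x b, x - i0 b ∈ (maximalIdeal D).map (algebraMap D B₁) → (x ∈ M ↔ b ∈ maximalIdeal B₀) := fun M _ hM x b hb => by
    rw [← hM, Ideal.mem_comap]
    constructor
    · intro h
      have h' := sub_mem h (hM0 M hM hb)
      rw [sub_sub_cancel] at h'
      exact h'
    · intro h
      have h' := add_mem (hM0 M hM hb) h
      rw [show x - i0 b + i0.toRingHom b = x from sub_add_cancel x (i0 b)] at h'
      exact h'
  haveI : Nontrivial B₁ := by
    exact RingHom.domain_nontrivial (Algebra.TensorProduct.lift (Algebra.ofId D (B ⧸ I)) πP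
      (fun _ _ => Commute.all _ _)).toRingHom
  haveI : IsLocalRing B₁ := by
    obtain ⟨M, hM⟩ := Ideal.exists_maximal B₁
    refine IsLocalRing.of_unique_max_ideal ⟨M, hM, fun M' hM' => ?_⟩
    refine (hM'.eq_of_le hM.ne_top fun x hx => ?_)
    haveI := hM
    haveI := hM'
    obtain ⟨b, hb⟩ := hdec x
    exact (hmem M (hcm M) x b hb).2 ((hmem M' (hcm M') x b hb).1 hx)
  have hm1 : ∀ x b, x - i0 b ∈ (maximalIdeal D).map (algebraMap D B₁) → (x ∈ maximalIdeal B₁ ↔ b ∈ maximalIdeal B₀) :=
    hmem (maximalIdeal B₁) (hcm _)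
  have hle1 : (maximalIdeal D).map (algebraMap D B₁) ≤ maximalIdeal B₁ := hM0 _ (hcm _)
  haveI : IsLocalHom (algebraMap D B₁) := ((local_hom_TFAE (algebraMap D B₁)).out 0 2).2 hle1
  haveI : IsAdicComplete (maximalIdeal B₁) B₁ := by
    haveI : IsAdicComplete ((maximalIdeal B₀).map (algebraMap B₀ B₁)) B₁ :=
      (IsAdicComplete.map_algebraMap_iff _ _).2 (Compl.isAdicComplete_of_finite _ _)
    obtain ⟨n, hn⟩ := Ideal.exists_pow_le_of_le_radical_of_fg (I := maximalIdeal B₁)
      (J := (maximalIdeal B₀).map (algebraMap B₀ B₁)) (by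
        rw [Ideal.radical_eq_sInf]
        refine le_sInf ?_
        rintro Q ⟨hQ, hQp⟩
        haveI := hQp
        haveI : Q.IsMaximal := Ideal.isMaximal_of_isIntegral_of_isMaximal_comap (R := B₀) Q (by
          rw [← (maximalIdeal.isMaximal B₀).eq_of_le (Ideal.IsPrime.comap (algebraMap B₀ B₁)).ne_top (Ideal.map_le_iff_le_comap.1 hQ)]
          exact maximalIdeal.isMaximal B₀)
        exact (IsLocalRing.eq_maximalIdeal ‹Q.IsMaximal›).ge) (IsNoetherian.noetherian _)
    refine Compl.isAdicComplete_of_le_of_pow_le B₁ ?_ hn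
    rw [Ideal.map_le_iff_le_comap]
    exact (hcm _).ge
  let u : B₁ →ₐ[D] B ⧸ I := Algebra.TensorProduct.lift (Algebra.ofId D (B ⧸ I)) πP (fun _ _ => Commute.all _ _)
  have hui : ∀ b, u (i0 b) = π b := fun b => by
    show algebraMap D (B ⧸ I) 1 * π b = π b
    rw [map_one, one_mul]
  have hu : Function.Surjective u := fun y => by
    obtain ⟨b, rfl⟩ := hπ y
    exact ⟨i0 b, hui b⟩
  have hfs₁ : CAlgX.IsAdicFormallySmooth D B₁ (maximalIdeal B₁) := by
    refine (FSFlat3.isAdicFormallySmooth_iff hk₀).2 ⟨inferInstance, ?_⟩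
    exact CohenAlg3.isGeometricallyRegular_of_algEquiv
      (Algebra.TensorProduct.cancelBaseChange P D κ κ B₀).symm
      (CohenAlg3.isGeometricallyRegular_of_algEquiv e.symm hgeoF)
  obtain ⟨v, hv⟩ := CohenAlg3.exists_lift_quot (CohenAlg3.isFormallySmoothAdic_maximal hfs₁) I hI u hu
  have hbij : Function.Bijective v := by
    refine CohenAlg3.bijective_of_fibre v (maximalIdeal D) hle1 hI (fun c => ?_) (fun x hx => ?_)
    · obtain ⟨x, hx⟩ := hu (Ideal.Quotient.mk I c)
      refine ⟨x, Ideal.Quotient.eq.1 ?_⟩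
      rw [hv, hx]
    · obtain ⟨b, hb⟩ := hdec x
      have hzero : u x = 0 := (hv x).symm.trans (Ideal.Quotient.eq_zero_iff_mem.2 hx)
      have hm : (maximalIdeal D).map (algebraMap D B₁) ≤ RingHom.ker u.toRingHom := by
        rw [Ideal.map_le_iff_le_comap]
        intro a ha
        show u (algebraMap D B₁ a) = 0
        rw [u.commutes, IsScalarTower.algebraMap_apply D B (B ⧸ I)]
        exact Ideal.Quotient.eq_zero_iff_mem.2 (Ideal.mem_map_of_mem _ ha)
      have hπb : π b = 0 := by
        have h1 : u (x - i0 b) = 0 := hm hb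
        rwa [map_sub, hzero, zero_sub, neg_eq_zero, hui] at h1
      rw [← sub_add_cancel x (i0 b)]
      refine add_mem hb ?_
      have h2 : b ∈ (maximalIdeal P).map (algebraMap P B₀) := hker ▸ hπb
      have h3 := Ideal.mem_map_of_mem i0.toRingHom h2
      rw [Ideal.map_map] at h3
      refine (Ideal.map_le_iff_le_comap.2 fun a ha => ?_) h3
      rw [Ideal.mem_comap, RingHom.comp_apply]
      show i0 (algebraMap P B₀ a) ∈ (maximalIdeal D).map (algebraMap D B₁)
      rw [i0.commutes, IsScalarTower.algebraMap_apply P D B₁]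
      exact Ideal.mem_map_of_mem _ (map_nonunit (algebraMap P D) a ha)
  let w : B₁ ≃ₐ[D] B := AlgEquiv.ofBijective v hbij
  -- the fields
  letI : Algebra P k := ((algebraMap D k).comp φ).toAlgebra
  haveI : IsScalarTower P D k := .of_algebraMap_eq fun _ => rfl
  letI : Algebra P L := ((algebraMap D L).comp φ).toAlgebra
  haveI : IsScalarTower P D L := .of_algebraMap_eq fun _ => rfl
  haveI : IsScalarTower P k L := .of_algebraMap_eq fun x => IsScalarTower.algebraMap_apply D k L (φ x)
  let K := FractionRing P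
  haveI : FaithfulSMul P k := (faithfulSMul_iff_algebraMap_injective _ _).mpr
    ((IsFractionRing.injective D k).comp hinj)
  haveI : FaithfulSMul P L := (faithfulSMul_iff_algebraMap_injective _ _).mpr (by
    rw [IsScalarTower.algebraMap_eq P k L]; exact (algebraMap k L).injective.comp (FaithfulSMul.algebraMap_injective P k))
  letI := FractionRing.liftAlgebra P k
  letI := FractionRing.liftAlgebra P L
  haveI : FiniteDimensional K k := Module.Finite.of_isLocalization P D (nonZeroDivisors P)
  haveI : IsScalarTower K k L := .of_algebraMap_eq' (IsLocalization.ringHom_ext (nonZeroDivisors P) (by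
    rw [RingHom.comp_assoc, ← IsScalarTower.algebraMap_eq P K k, ← IsScalarTower.algebraMap_eq P K L,
      ← IsScalarTower.algebraMap_eq P k L]))
  haveI : FiniteDimensional K L := Module.Finite.trans k L
  haveI hreg : IsRegularRing (L ⊗[P] B₀) :=
    CplDomain.regular_tensor_tower P B₀ (hasExt_of_adicFS P B₀ hfs₀) K L
  exact @IsRegularRing.of_ringEquiv _ _ _ _ ((Algebra.TensorProduct.cancelBaseChange P D D L B₀).symm.toRingEquiv.trans
      (Algebra.TensorProduct.congr (AlgEquiv.refl : L ≃ₐ[D] L) w).toRingEquiv) hreg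

/-- **André's theorem** for complete local rings. -/
theorem isRegularHom_of_adicFS (A B : Type u) [CommRing A] [IsLocalRing A] [IsNoetherianRing A]
    [IsAdicComplete (maximalIdeal A) A] [CommRing B] [IsLocalRing B] [IsNoetherianRing B]
    [IsAdicComplete (maximalIdeal B) B] [Algebra A B] [IsLocalHom (algebraMap A B)]
    (hfs : CAlgX.IsAdicFormallySmooth A B (maximalIdeal B)) : CAlg.IsRegularHom A B := by
  haveI hflat : Module.Flat A B := FSFlat3.flat_of_isAdicFormallySmooth hfs
  refine ⟨hflat, fun p _ => ⟨FlatDepth.isNoetherianRing_fiber p, fun k' _ _ hfin => ?_⟩⟩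
  haveI := hfin
  have hp : p ≤ maximalIdeal A := le_maximalIdeal (Ideal.IsPrime.ne_top ‹_›)
  let D := A ⧸ p
  haveI : IsLocalRing D := IsLocalRing.of_surjective' _ Ideal.Quotient.mk_surjective
  haveI : IsAdicComplete (maximalIdeal D) D :=
    CohenAlg3.isAdicComplete_of_surjective _ Ideal.Quotient.mk_surjective
  let BD := D ⊗[A] B
  let i0 : B →ₐ[A] BD := Algebra.TensorProduct.includeRight
  have hi0 : Function.Surjective i0 := CohenAlg3.includeRight_surjective Ideal.Quotient.mk_surjective
  have hpB : p.map (algebraMap A B) ≤ maximalIdeal B :=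
    (Ideal.map_mono hp).trans (((local_hom_TFAE (algebraMap A B)).out 0 2).1 ‹_›)
  haveI : Nontrivial BD := nontrivial_of_ne 1 0 fun h => (maximalIdeal.isMaximal B).ne_top
    ((Ideal.eq_top_iff_one _).2 (hpB ((CohenAlg3.ker_includeRight (B := B) p).le
      (show i0 1 = 0 by rw [map_one]; exact h))))
  haveI : IsLocalRing BD := IsLocalRing.of_surjective' i0.toRingHom hi0
  haveI : IsNoetherianRing BD := isNoetherianRing_of_surjective _ _ i0.toRingHom hi0
  haveI : IsAdicComplete (maximalIdeal BD) BD := CohenAlg3.isAdicComplete_of_surjective i0.toRingHom hi0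
  haveI : IsLocalHom (algebraMap D BD) := by
    refine ((local_hom_TFAE (algebraMap D BD)).out 0 2).2 ?_
    rw [← map_maximalIdeal_of_surjective (Ideal.Quotient.mk p) Ideal.Quotient.mk_surjective, Ideal.map_map,
      ← map_maximalIdeal_of_surjective i0.toRingHom hi0,
      show (algebraMap D BD).comp (Ideal.Quotient.mk p) = i0.toRingHom.comp (algebraMap A B) from
        RingHom.ext fun a => ((IsScalarTower.algebraMap_apply A D BD a).symm.trans (i0.commutes a).symm),
      ← Ideal.map_map]
    exact Ideal.map_mono (((local_hom_TFAE (algebraMap A B)).out 0 2).1 ‹_›)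
  have hfsD : CAlgX.IsAdicFormallySmooth D BD (maximalIdeal BD) := by
    have hk : Function.Surjective (algebraMap A (ResidueField D)) := residue_surjective.comp Ideal.Quotient.mk_surjective
    refine (FSFlat3.isAdicFormallySmooth_iff (k := ResidueField D) residue_surjective).2 ⟨inferInstance, ?_⟩
    exact CohenAlg3.isGeometricallyRegular_of_algEquiv
      (Algebra.TensorProduct.cancelBaseChange A D (ResidueField D) (ResidueField D) B).symm
      ((FSFlat3.isAdicFormallySmooth_iff hk).1 hfs).2
  letI : Algebra A k' := ((algebraMap p.ResidueField k').comp (algebraMap A p.ResidueField)).toAlgebra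
  haveI : IsScalarTower A p.ResidueField k' := .of_algebraMap_eq fun _ => rfl
  letI : Algebra D k' := ((algebraMap p.ResidueField k').comp (algebraMap D p.ResidueField)).toAlgebra
  haveI : IsScalarTower D p.ResidueField k' := .of_algebraMap_eq fun _ => rfl
  haveI : IsScalarTower A D k' := .of_algebraMap_eq fun a => by
    show algebraMap p.ResidueField k' (algebraMap A p.ResidueField a) = algebraMap p.ResidueField k' (algebraMap D p.ResidueField (algebraMap A D a))
    rw [← IsScalarTower.algebraMap_apply A D p.ResidueField]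
  haveI hreg := regular_tensor_domain D BD hfsD p.ResidueField k'
  exact @IsRegularRing.of_ringEquiv _ _ _ _
    ((Algebra.TensorProduct.cancelBaseChange A D D k' B).toRingEquiv.trans
      (Algebra.TensorProduct.cancelBaseChange A p.ResidueField p.ResidueField k' B).symm.toRingEquiv) hreg

end Groth.Agent.AndreFS1
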